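/-
Checks of rows of coset tables in M22.

Main results: `ok_sound`, `natCard_m22`, `rows_of_blocks`.
-/
import Cfsg.Agent.Lib.PcCover.Mathieu
import Cfsg.Agent.Lib.Golay.Mathieu

set_option autoImplicit false
open Cfsg

namespace Cfsg.Agent.MultiplierTwentyTwo

open Cfsg.Agent.Golay Cfsg.Agent.Multiplier Cfsg.Agent.PcCover

/-- Codes of elements of M22. -/
def ok (d : ℕ) : Bool := isAut d && fn d 23 == 23 && fn d 0 == 0

theorem ok_sound : ∀ d, ok d = true → validPerm d = true ∧ toPerm d ∈ Cfsg.Spor.M22 := fun d h => by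
  simp only [ok, Bool.and_eq_true, beq_iff_eq] at h
  have hv := validPerm_of_isAut h.1.1
  refine ⟨hv, Subgroup.mem_inf.2 ⟨Subgroup.mem_inf.2 ⟨toPerm_mem_M24 h.1.1, ?_⟩, ?_⟩⟩
  · show toPerm d (pt 23) = pt 23
    rw [toPerm_pt hv (by norm_num), h.1.2]
  · show toPerm d (pt 0) = pt 0
    rw [toPerm_pt hv (by norm_num), h.2]

theorem natCard_m22 : Nat.card Cfsg.Spor.M22 = 443520 :=
  Golay.natCard_m22 (a := none) (b := some 0) (by simp)

/-- Rows in a block pass. -/
def blockOk (T : Table) (R : Rules) (b : ℕ) : Bool :=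
  ((List.range 256).map (256 * b + ·)).all fun i => decide (T.size ≤ i) || T.rowOk ok R i

theorem rows_of_blocks {T : Table} {R : Rules} {k : ℕ} (hk : T.size ≤ 256 * k)
    (h : ∀ b < k, blockOk T R b = true) : ∀ i < T.size, T.rowOk ok R i = true := by
  intro i hi
  have := List.all_eq_true.1 (h (i / 256) (by omega)) i
    (List.mem_map.2 ⟨i % 256, List.mem_range.2 (by omega), Nat.div_add_mod i 256⟩)
  simpa [hi.not_ge] using this

end Cfsg.Agent.MultiplierTwentyTwo
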