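/-
Rows of the table for the three part, blocks 5 to 9.
-/
import Cfsg.Agent.Lib.MultiplierTwentyTwo.Rows
import Cfsg.Agent.Lib.MultiplierTwentyTwo.DataThree

set_option autoImplicit false
set_option maxRecDepth 100000
set_option Elab.async false

namespace Cfsg.Agent.MultiplierTwentyTwo

theorem three_rows5 : blockOk Three.table Three.base.rules 5 = true := by decide +kernel

theorem three_rows6 : blockOk Three.table Three.base.rules 6 = true := by decide +kernel

theorem three_rows7 : blockOk Three.table Three.base.rules 7 = true := by decide +kernel

theorem three_rows8 : blockOk Three.table Three.base.rules 8 = true := by decide +kernel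

theorem three_rows9 : blockOk Three.table Three.base.rules 9 = true := by decide +kernel

end Cfsg.Agent.MultiplierTwentyTwo
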