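/-
Rows of the table for the three part, blocks 10 to 14.
-/
import Cfsg.Agent.Lib.MultiplierTwentyTwo.Rows
import Cfsg.Agent.Lib.MultiplierTwentyTwo.DataThree

set_option autoImplicit false
set_option maxRecDepth 100000
set_option Elab.async false

namespace Cfsg.Agent.MultiplierTwentyTwo

theorem three_rows10 : blockOk Three.table Three.base.rules 10 = true := by decide +kernel

theorem three_rows11 : blockOk Three.table Three.base.rules 11 = true := by decide +kernel

theorem three_rows12 : blockOk Three.table Three.base.rules 12 = true := by decide +kernel

theorem three_rows13 : blockOk Three.table Three.base.rules 13 = true := by decide +kernel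

theorem three_rows14 : blockOk Three.table Three.base.rules 14 = true := by decide +kernel

end Cfsg.Agent.MultiplierTwentyTwo
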