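/-
Rows of the table for the two part, blocks 0 to 4.
-/
import Cfsg.Agent.Lib.MultiplierTwentyTwo.Rows
import Cfsg.Agent.Lib.MultiplierTwentyTwo.DataTwo

set_option autoImplicit false
set_option maxRecDepth 100000
set_option Elab.async false

namespace Cfsg.Agent.MultiplierTwentyTwo

theorem two_rows0 : blockOk Two.table Two.base.rules 0 = true := by decide +kernel

theorem two_rows1 : blockOk Two.table Two.base.rules 1 = true := by decide +kernel

theorem two_rows2 : blockOk Two.table Two.base.rules 2 = true := by decide +kernel

theorem two_rows3 : blockOk Two.table Two.base.rules 3 = true := by decide +kernel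

theorem two_rows4 : blockOk Two.table Two.base.rules 4 = true := by decide +kernel

end Cfsg.Agent.MultiplierTwentyTwo
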