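/-
Stem extensions of M22 with kernels of order 4, 3 and 12.

Main result: `exists_twelve_cover`.
-/
import Cfsg.Agent.Lib.MultiplierTwentyTwo.DataTwo
import Cfsg.Agent.Lib.MultiplierTwentyTwo.DataThree
import Cfsg.Agent.Lib.CoverSixSeven.Bound
import Cfsg.Agent.Lib.MultiplierTwentyTwo.Rows
import Cfsg.Agent.Lib.MultiplierTwentyTwo.RowsTwo0
import Cfsg.Agent.Lib.MultiplierTwentyTwo.RowsTwo1
import Cfsg.Agent.Lib.MultiplierTwentyTwo.RowsTwo2
import Cfsg.Agent.Lib.MultiplierTwentyTwo.RowsThree0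
import Cfsg.Agent.Lib.MultiplierTwentyTwo.RowsThree1
import Cfsg.Agent.Lib.MultiplierTwentyTwo.RowsThree2
import Cfsg.Agent.Lib.MultiplierTwentyTwo.RowsThree3
import Cfsg.Agent.Lib.MultiplierTwentyTwo.RowsThree4

set_option autoImplicit false
set_option linter.style.haveILetI false
set_option maxRecDepth 100000
set_option Elab.async false
open Cfsg

namespace Cfsg.Agent.MultiplierTwentyTwo

open Cfsg.Agent.Golay Cfsg.Agent.Multiplier Cfsg.Agent.PcCover

theorem two_rows : ∀ b < 14, blockOk Two.table Two.base.rules b = true := fun b hb =>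
  match b, hb with
  | 0, _ => two_rows0
  | 1, _ => two_rows1
  | 2, _ => two_rows2
  | 3, _ => two_rows3
  | 4, _ => two_rows4
  | 5, _ => two_rows5
  | 6, _ => two_rows6
  | 7, _ => two_rows7
  | 8, _ => two_rows8
  | 9, _ => two_rows9
  | 10, _ => two_rows10
  | 11, _ => two_rows11
  | 12, _ => two_rows12
  | 13, _ => two_rows13
  | k + 14, h => absurd h (Nat.not_lt.2 (Nat.le_add_left 14 k))

theorem three_rows : ∀ b < 25, blockOk Three.table Three.base.rules b = true := fun b hb =>
  match b, hb with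
  | 0, _ => three_rows0
  | 1, _ => three_rows1
  | 2, _ => three_rows2
  | 3, _ => three_rows3
  | 4, _ => three_rows4
  | 5, _ => three_rows5
  | 6, _ => three_rows6
  | 7, _ => three_rows7
  | 8, _ => three_rows8
  | 9, _ => three_rows9
  | 10, _ => three_rows10
  | 11, _ => three_rows11
  | 12, _ => three_rows12
  | 13, _ => three_rows13
  | 14, _ => three_rows14
  | 15, _ => three_rows15
  | 16, _ => three_rows16
  | 17, _ => three_rows17
  | 18, _ => three_rows18
  | 19, _ => three_rows19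
  | 20, _ => three_rows20
  | 21, _ => three_rows21
  | 22, _ => three_rows22
  | 23, _ => three_rows23
  | 24, _ => three_rows24
  | k + 25, h => absurd h (Nat.not_lt.2 (Nat.le_add_left 25 k))

theorem two_check : Two.base.check (eqWord Two.table.gens) = true := by decide +kernel

theorem three_check : Three.base.check (eqWord Three.table.gens) = true := by decide +kernel

theorem two_base : Two.table.baseOk ok Two.base.rules = true := by decide +kernel

theorem three_base : Three.table.baseOk ok Three.base.rules = true := by decide +kernel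

theorem two_model : ∀ k < Two.base.rules.length, ∀ x, wp Two.model (Two.base.rules.getD k ([], [])).1 x =
    (wp Two.model (Two.base.rules.getD k ([], [])).2 * Two.cen ^ Two.base.phi.getD k 0) x := by
  decide +kernel

theorem three_model : ∀ k < Three.base.rules.length, ∀ x, wp Three.model (Three.base.rules.getD k ([], [])).1 x =
    (wp Three.model (Three.base.rules.getD k ([], [])).2 * Three.cen ^ Three.base.phi.getD k 0) x := by
  decide +kernel

theorem two_cen : ∀ i < Two.base.n, ∀ x, (Two.model i * Two.cen) x = (Two.cen * Two.model i) x := by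
  decide +kernel

theorem three_cen : ∀ i < Three.base.n, ∀ x, (Three.model i * Three.cen) x = (Three.cen * Three.model i) x := by
  decide +kernel

/-- A stem extension with cyclic kernel of order 4. -/
theorem exists_four_cover : ∃ (Γ : Type) (_ : Group Γ) (_ : Finite Γ) (σ : Γ →* Cfsg.Spor.M22),
    Cfsg.IsStemExtension σ ∧ IsCyclic σ.ker ∧ Nat.card σ.ker = 4 := by
  haveI := Fact.mk Nat.prime_two
  exact exists_stem_of_table ok_sound Two.base Two.table rfl (by rw [natCard_m22]; decide +kernel)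
    two_check two_base (rows_of_blocks (by decide) two_rows) Two.model Two.cen
    (fun i hi => Equiv.ext (two_cen i hi))
    (show orderOf Two.cen = 2 ^ (1 + 1) from orderOf_eq_prime_pow
      (fun h => absurd (DFunLike.congr_fun h 0) (by decide +kernel)) (Equiv.ext (by decide +kernel)))
    two_model rfl 3 (by decide +kernel)

/-- A stem extension with kernel of order 3. -/
theorem exists_three_cover : ∃ (Γ : Type) (_ : Group Γ) (_ : Finite Γ) (σ : Γ →* Cfsg.Spor.M22),
    Cfsg.IsStemExtension σ ∧ IsCyclic σ.ker ∧ Nat.card σ.ker = 3 := by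
  haveI := Fact.mk Nat.prime_three
  exact exists_stem_of_table ok_sound Three.base Three.table rfl (by rw [natCard_m22]; decide +kernel)
    three_check three_base (rows_of_blocks (by decide) three_rows) Three.model Three.cen
    (fun i hi => Equiv.ext (three_cen i hi))
    (show orderOf Three.cen = 3 from orderOf_eq_prime (Equiv.ext (by decide +kernel))
      (fun h => absurd (DFunLike.congr_fun h 0) (by decide +kernel)))
    three_model rfl 2 (by decide +kernel)

open CoverSixSeven in
/-- A stem extension with cyclic kernel of order 12. -/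
theorem exists_twelve_cover : ∃ (Γ : Type) (_ : Group Γ) (_ : Finite Γ) (σ : Γ →* Cfsg.Spor.M22),
    Cfsg.IsStemExtension σ ∧ IsCyclic σ.ker ∧ Nat.card σ.ker = 12 := by
  obtain ⟨Γ₁, _, _, σ₁, hσ₁, hy₁, hc₁⟩ := exists_four_cover
  obtain ⟨Γ₂, _, _, σ₂, hσ₂, hy₂, hc₂⟩ := exists_three_cover
  let σ : Fib σ₁ σ₂ →* Cfsg.Spor.M22 := (σ₁.comp (MonoidHom.fst _ _)).comp (Fib σ₁ σ₂).subtype
  have hk2 : ∀ x : Fib σ₁ σ₂, x ∈ σ.ker → x.1.2 ∈ σ₂.ker := fun x hx => by
    rw [MonoidHom.mem_ker, ← (mem_fib σ₁ σ₂).1 x.2]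
    exact hx
  let e : σ.ker ≃* σ₁.ker × σ₂.ker :=
    { toFun := fun x => (⟨x.1.1.1, x.2⟩, ⟨x.1.1.2, hk2 x.1 x.2⟩)
      invFun := fun y => ⟨⟨(y.1.1, y.2.1), (mem_fib σ₁ σ₂).2 (by
        rw [(MonoidHom.mem_ker).1 y.1.2, (MonoidHom.mem_ker).1 y.2.2])⟩, y.1.2⟩
      left_inv := fun x => rfl
      right_inv := fun y => rfl
      map_mul' := fun x y => rfl }
  refine ⟨Fib σ₁ σ₂, inferInstance, inferInstance, σ, ⟨?_, ?_, ?_⟩, ?_, ?_⟩
  · intro g
    obtain ⟨a, ha⟩ := hσ₁.1 g
    obtain ⟨b, hb⟩ := hσ₂.1 g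
    exact ⟨⟨(a, b), ha.trans hb.symm⟩, ha⟩
  · exact fun x hx => Subgroup.mem_center_iff.2 fun g => Subtype.ext (Prod.ext
      ((Subgroup.mem_center_iff.1 (hσ₁.2.1 (show x.1.1 ∈ σ₁.ker from hx))) g.1.1)
      ((Subgroup.mem_center_iff.1 (hσ₂.2.1 (hk2 x hx))) g.1.2))
  · intro x hx
    have h1 := mem_commutator_fib σ₁ σ₂ hσ₁ hσ₂.1 (by rw [hc₁, hc₂]; decide)
      (show x.1.1 ∈ σ₁.ker from hx)
    have h2 := mem_commutator_fib σ₂ σ₁ hσ₂ hσ₁.1 (by rw [hc₁, hc₂]; decide) (hk2 x hx)
    let sw : Fib σ₂ σ₁ →* Fib σ₁ σ₂ :=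
      { toFun := fun y => ⟨(y.1.2, y.1.1), y.2.symm⟩
        map_one' := rfl
        map_mul' := fun _ _ => rfl }
    have h3 : sw ⟨(x.1.2, 1), (mem_fib σ₂ σ₁).2 (by rw [map_one]; exact hk2 x hx)⟩ ∈
        commutator (Fib σ₁ σ₂) := by
      have hmap : (commutator (Fib σ₂ σ₁)).map sw ≤ commutator (Fib σ₁ σ₂) := by
        rw [commutator_def, Subgroup.map_commutator]
        exact Subgroup.commutator_mono le_top le_top
      exact hmap ⟨_, h2, rfl⟩
    convert mul_mem h1 h3 using 1
    exact Subtype.ext (Prod.ext (mul_one _).symm (one_mul _).symm)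
  · haveI := hy₁
    haveI := hy₂
    haveI : IsCyclic (σ₁.ker × σ₂.ker) :=
      Group.isCyclic_prod_iff.2 ⟨hy₁, hy₂, by rw [hc₁, hc₂]; decide⟩
    exact isCyclic_of_surjective e.symm e.symm.surjective
  · rw [Nat.card_congr e.toEquiv, Nat.card_prod, hc₁, hc₂]

end Cfsg.Agent.MultiplierTwentyTwo
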