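/-
Certificates bounding the 2- and 3-parts of the multiplier of M22.
-/
import Cfsg.Agent.Lib.PcCover.Collect

set_option autoImplicit false

namespace Cfsg.Agent.MultiplierTwentyTwo.Upper

/-- The letters. -/
def twoGens : List ℕ :=
  [0xbc2954c9d6345ac41e6b53ca418440,
    0xbda6aaacb048da8951ec31e2470820,
    0xb9e086be3593a6952d94b10a618820,
    0xbd8cf3b1d0a45b24254b9d46428820,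
    0xbc92655a2c3b9706cea47d0a818820,
    0xbb4c93ae2453ac893e8c9d4b018820,
    0xbc0ea332364b892451ebaccad18820,
    0xbc101b4c6d1564e8bd26230ab3d140,
    0xbc99030d53459a275685224ef5c420]

/-- The certificate. -/
def two : PcCover.Cert where
  n := 7
  rules := [([0, 0], []),
    ([1, 1], []),
    ([2, 2], []),
    ([3, 3], []),
    ([4, 4], []),
    ([5, 5], []),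
    ([6, 6], []),
    ([1, 0], [0, 1, 3]),
    ([2, 0], [0, 2, 4, 5, 6]),
    ([2, 1], [1, 2, 5, 6]),
    ([3, 0], [0, 3]),
    ([3, 1], [1, 3]),
    ([3, 2], [2, 3, 5]),
    ([4, 0], [0, 4, 6]),
    ([4, 1], [1, 4, 5]),
    ([4, 2], [2, 4]),
    ([4, 3], [3, 4, 6]),
    ([5, 0], [0, 5, 6]),
    ([5, 1], [1, 5]),
    ([5, 2], [2, 5]),
    ([5, 3], [3, 5]),
    ([5, 4], [4, 5]),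
    ([6, 0], [0, 6]),
    ([6, 1], [1, 6]),
    ([6, 2], [2, 6]),
    ([6, 3], [3, 6]),
    ([6, 4], [4, 6]),
    ([6, 5], [5, 6])]
  rels := [.cons [1] 0,
    .cons [1] 7,
    .cons [2] 0,
    .cons [2] 1,
    .cons [2] 7,
    .cons [2] 8,
    .cons [2] 9,
    .cons [1, 2] 0,
    .cons [1, 2] 7,
    .cons [1, 2] 8,
    .cons [3] 0,
    .cons [3] 2,
    .cons [3] 8,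
    .cons [3] 9,
    .cons [3] 12,
    .cons [1, 3] 8,
    .cons [2, 3] 0,
    .cons [2, 3] 7,
    .cons [2, 3] 8,
    .cons [2, 3] 10,
    .cons [1, 2, 3] 0,
    .cons [4] 0,
    .fus 7 [1, 6] [1, 5] [3, 5, 6] [0, 3, 4],
    .fus 8 [3, 6] [1, 5] [2, 4, 5] [4, 5]]
  cvec := [0, 0, 0, 0, 0, 0, 0, 0, 0, -1, 0, -1, 0, 0, 1, 1, 1, 0, 0, 1, 0, -1, 0, 0, 0, -1, -1, 1]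
  m := 4
  mcomb := [24, -19, 64, -126, -157, 474, -124, -68, 27, -350, 94, 226, 373, 87, 262, -269, -48, 126, -124, 54, 52, 0, -8, 4]
  basis := [(3, [0, 0, 0, 1, 0, 0, 0, 2, 0, 0, 1, 0, 0, 0, 0, 0, 0, 0, 0, 0, 0, 0, 0, 0, 0, 0, 0, 0], [0, 1, 0, 0, 0, 0, 0, 0, 0, 0, 0, 0, 0, 0, 0, 0, 0, 0, 0, 0, 0, 0, 0, 0, 0]),
    (4, [0, 0, 0, 0, 1, 1, 2, 0, 2, 0, 0, 0, 0, 1, 0, 0, 0, 1, 0, 0, 0, 1, 1, 0, 0, 0, 1, 0], [0, 0, 0, 1, 0, 0, 0, 0, 0, 0, 0, 0, 0, 0, 0, 0, 0, 0, 0, 0, 0, 0, 0, 0, 0]),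
    (5, [0, 0, 0, 0, 0, 1, 1, 0, 0, 2, 0, 0, 0, 0, 0, 0, 0, 0, 1, 0, 0, 0, 0, 1, 0, 0, 0, 1], [0, 0, 0, 0, 1, 0, 0, 0, 0, 0, 0, 0, 0, 0, 0, 0, 0, 0, 0, 0, 0, 0, 0, 0, 0]),
    (6, [0, 0, 0, 0, 0, 0, 1, 0, 0, 0, 0, 0, 0, 1, 0, -1, 0, 1, 0, -1, 0, 0, 1, 0, -1, 0, 0, -1], [0, 0, 0, 1, 0, 0, 1, 0, 0, 0, 0, 0, 0, 0, 0, 0, 0, 0, 0, 0, 0, 0, 0, 0, 0]),
    (9, [0, 0, 0, 0, 0, 0, 0, 0, 0, 1, 0, -1, -2, -1, 1, 2, 0, 0, 1, 2, 0, -2, -1, 1, 1, -2, 0, 3], [1, 1, 0, 0, 1, 0, -1, 0, -1, 0, 0, 0, 0, 0, 0, 0, 0, 0, 0, 0, 0, 0, 0, 0, 0]),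
    (10, [0, 0, 0, 0, 0, 0, 0, 0, 0, 0, 1, -1, 0, 0, 0, 0, 0, 0, 0, 0, 0, 0, 0, 0, 0, 0, 0, 0], [0, 1, 1, 0, 0, 0, 0, 0, 0, 0, 0, 0, 0, 0, 0, 0, 0, 0, 0, 0, 0, 0, 0, 0, 0]),
    (11, [0, 0, 0, 0, 0, 0, 0, 0, 0, 0, 0, 1, 0, 0, 0, 0, 1, -1, -1, 0, -1, -1, -1, 1, 0, 0, 0, 2], [0, -1, -1, 0, 0, 0, 0, 0, 0, 0, 0, 1, 0, 0, 0, 0, 0, 0, 0, 0, 0, 0, 0, 1, 0]),
    (12, [0, 0, 0, 0, 0, 0, 0, 0, 0, 0, 0, 0, 1, 0, -1, 0, -1, 1, -1, 0, -1, 0, 1, -1, 0, 0, -1, -2], [0, 0, 0, 0, 0, 1, 0, 0, 0, 0, 0, 0, 0, 0, 0, 0, 0, 0, 0, 0, 0, 0, 0, 0, 0]),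
    (13, [0, 0, 0, 0, 0, 0, 0, 0, 0, 0, 0, 0, 0, 1, 0, -1, -1, 0, 0, -1, -1, 1, 1, 0, -1, -1, 0, -2], [0, 0, 0, 1, 0, 0, 1, 0, 0, 0, 0, 0, 0, -1, 0, 0, 0, 0, 0, 0, 0, 0, 0, 0, 0]),
    (15, [0, 0, 0, 0, 0, 0, 0, 0, 0, 0, 0, 0, 0, 0, 0, 1, -1, 1, 1, 1, 0, 1, 1, 0, 0, 0, 0, -1], [0, 1, 1, 0, 0, 0, 0, 0, 0, 0, 0, -1, 0, 0, 0, 0, 0, 0, 0, 0, 0, 0, 0, -1, 1]),
    (16, [0, 0, 0, 0, 0, 0, 0, 0, 0, 0, 0, 0, 0, 0, 0, 0, 1, -1, 1, 0, 0, -1, 0, 0, 0, 0, -1, 2], [0, -1, -1, -1, 0, -1, 0, 0, 1, 1, 0, 0, 0, 0, 0, 0, 0, 0, 0, 0, 0, 0, 0, 0, 0]),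
    (18, [0, 0, 0, 0, 0, 0, 0, 0, 0, 0, 0, 0, 0, 0, 0, 0, 0, 0, 1, -1, 0, 0, 0, 1, -1, 0, 0, 0], [0, 0, 0, 0, 1, 0, 0, 1, 0, 0, 0, 0, 0, 0, 0, 0, 0, 0, 0, 0, 0, 0, 0, 0, 0]),
    (19, [0, 0, 0, 0, 0, 0, 0, 0, 0, 0, 0, 0, 0, 0, 0, 0, 0, 0, 0, 1, 1, 0, 0, -1, 1, 1, 0, 1], [0, 0, 0, 0, -1, 0, 0, -1, 0, 0, 0, 0, 0, 0, 1, 0, 0, 0, 0, 0, 0, 0, 0, 0, 0]),
    (20, [0, 0, 0, 0, 0, 0, 0, 0, 0, 0, 0, 0, 0, 0, 0, 0, 0, 0, 0, 0, 1, 2, 0, 0, 1, 2, 0, -2], [0, 0, 1, 0, -1, 0, 0, -1, 0, -1, 0, 0, -1, 0, 2, 0, 0, 0, 1, 0, 0, 0, 0, 0, 0]),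
    (21, [0, 0, 0, 0, 0, 0, 0, 0, 0, 0, 0, 0, 0, 0, 0, 0, 0, 0, 0, 0, 0, 1, 0, 0, 3, 0, 0, -2], [0, -1, 0, -1, -2, -2, -1, -2, 1, 0, 0, 0, -2, 0, 2, -1, 0, 0, 2, 1, 0, 0, 0, 0, 0]),
    (22, [0, 0, 0, 0, 0, 0, 0, 0, 0, 0, 0, 0, 0, 0, 0, 0, 0, 0, 0, 0, 0, 0, 1, -1, 1, 1, 0, -1], [0, -1, 0, 0, -1, 0, 0, -1, 1, 0, 0, 1, -1, 1, 1, 0, 0, -1, 0, 0, 0, 0, 0, 0, 0]),
    (23, [0, 0, 0, 0, 0, 0, 0, 0, 0, 0, 0, 0, 0, 0, 0, 0, 0, 0, 0, 0, 0, 0, 0, 1, -1, 1, 0, -2], [0, 0, 1, 0, 1, 1, -1, 1, 0, -1, 1, 0, 0, 0, 0, 0, 0, 0, 0, 0, 0, 0, 0, 0, 0]),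
    (24, [0, 0, 0, 0, 0, 0, 0, 0, 0, 0, 0, 0, 0, 0, 0, 0, 0, 0, 0, 0, 0, 0, 0, 0, 1, -26, 1, -3], [-2, 11, -9, 5, -10, -25, 21, -9, -7, 13, -13, -6, 4, -1, -9, -4, 0, 2, 10, -8, 0, 0, 0, -4, 2]),
    (25, [0, 0, 0, 0, 0, 0, 0, 0, 0, 0, 0, 0, 0, 0, 0, 0, 0, 0, 0, 0, 0, 0, 0, 0, 0, 1, 1, 2], [0, -1, 1, -1, 2, 3, -4, 2, 1, -1, 2, -1, 0, -1, -1, 0, 0, 0, -2, 2, -1, 0, 0, 0, 0]),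
    (26, [0, 0, 0, 0, 0, 0, 0, 0, 0, 0, 0, 0, 0, 0, 0, 0, 0, 0, 0, 0, 0, 0, 0, 0, 0, 0, 1, 7], [0, -1, 1, -2, 4, 5, -7, 4, 2, -1, 3, -3, 1, -3, -3, 0, 0, 1, -4, 4, -2, -1, 0, 0, 0]),
    (27, [0, 0, 0, 0, 0, 0, 0, 0, 0, 0, 0, 0, 0, 0, 0, 0, 0, 0, 0, 0, 0, 0, 0, 0, 0, 0, 0, 1], [0, 0, 0, 0, 0, 0, 1, 0, 0, 0, -1, 0, 1, 1, 0, 1, -1, 0, 0, 0, 0, 0, 0, 0, 0])]
  T := [([], []),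
    ([3], [0, 0, 0, -1, 0, 0, 0, -1, 0, 0, 0, 0, 0, 0, 0, 0, 0, 0, 0, 0, 0, 0, 0, 0, 0, 0, 0, 0]),
    ([4, 5, 6], [0, 0, 0, 0, -1, -1, -1, 0, -1, 0, 0, 0, 0, 0, 0, 0, 0, 0, 0, 0, 0, -1, 0, 0, 0, 0, -1, -1]),
    ([6], [0, 0, 0, 0, 0, 0, -1, 0, 0, 0, 0, 0, 0, -1, 0, 0, 0, 0, 0, 0, 0, 0, 0, 0, 0, 0, 0, 0]),
    ([5, 6], [0, 0, 0, 0, 0, -1, -1, 0, 0, -1, 0, 0, 0, 0, 0, 0, 0, 0, 0, 0, 0, 0, 0, 0, 0, 0, 0, -1]),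
    ([5], [0, 0, 0, 0, 0, -1, 0, 0, 0, 0, 0, 0, 0, 0, -1, 0, 0, 0, 0, 0, 0, 0, 0, 0, 0, 0, 0, 0]),
    ([3, 4, 5, 6], [0, 0, 0, -1, -1, -1, -1, -1, -1, 0, 0, 0, 0, 0, 0, 0, 0, 0, 0, 0, 0, -1, 0, 0, 0, 0, -1, -1]),
    ([3, 6], [0, 0, 0, -1, 0, 0, -1, -1, 0, 0, 0, 0, 0, -1, 0, 0, 0, 0, 0, 0, 0, 0, 0, 0, 0, 0, 0, 0]),
    ([3, 5, 6], [0, 0, 0, -1, 0, -1, -1, -1, 0, -1, 0, 0, 0, 0, 0, 0, 0, 0, 0, 0, 0, 0, 0, 0, 0, 0, 0, -1]),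
    ([3, 5], [0, 0, 0, -1, 0, -1, 0, -1, 0, 0, 0, 0, 0, 0, -1, 0, 0, 0, 0, 0, 0, 0, 0, 0, 0, 0, 0, 0]),
    ([3, 4, 5], [0, 0, 0, -1, -1, -1, 0, -1, -1, 0, 0, 0, 0, 0, 0, 0, 1, 0, 0, 0, 1, -1, 0, 0, 0, 1, -1, 0]),
    ([4, 5], [0, 0, 0, 0, -1, -1, -1, 0, -1, 0, 0, 0, 0, -1, 0, 0, 0, 0, 0, 0, 0, -1, 0, 0, 0, 0, -1, -1]),
    ([4], [0, 0, 0, 0, -1, -1, -1, 0, -1, -1, 0, 0, 0, 0, 0, 0, 0, 0, 0, 0, 0, -1, 0, 0, 0, 0, -1, -1]),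
    ([4, 6], [0, 0, 0, 0, -1, -1, -1, 0, -1, 0, 0, 0, 0, 0, -1, 0, 0, 0, 0, 0, 0, -1, 0, 0, 0, 0, -1, 0]),
    ([3, 4], [0, 0, 0, -1, -1, -1, -1, -1, -1, -1, 0, 0, 0, 0, 0, 0, 0, 0, 0, 0, 0, -1, 0, 0, 0, 0, -1, -1]),
    ([3, 4, 6], [0, 0, 0, -1, -1, -1, -1, -1, -1, 0, 0, 0, 0, 0, -1, 0, 0, 0, 0, 0, 0, -1, 0, 0, 0, 0, -1, 0])]
  elems := [[], [0], [1], [0, 1], [2], [0, 2],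
    [1, 2], [0, 1, 2], [3], [0, 3], [1, 3], [0, 1, 3],
    [2, 3], [0, 2, 3], [1, 2, 3], [0, 1, 2, 3], [4], [0, 4],
    [1, 4], [0, 1, 4], [2, 4], [0, 2, 4], [1, 2, 4], [0, 1, 2, 4],
    [3, 4], [0, 3, 4], [1, 3, 4], [0, 1, 3, 4], [2, 3, 4], [0, 2, 3, 4],
    [1, 2, 3, 4], [0, 1, 2, 3, 4], [5], [0, 5], [1, 5], [0, 1, 5],
    [2, 5], [0, 2, 5], [1, 2, 5], [0, 1, 2, 5], [3, 5], [0, 3, 5],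
    [1, 3, 5], [0, 1, 3, 5], [2, 3, 5], [0, 2, 3, 5], [1, 2, 3, 5], [0, 1, 2, 3, 5],
    [4, 5], [0, 4, 5], [1, 4, 5], [0, 1, 4, 5], [2, 4, 5], [0, 2, 4, 5],
    [1, 2, 4, 5], [0, 1, 2, 4, 5], [3, 4, 5], [0, 3, 4, 5], [1, 3, 4, 5], [0, 1, 3, 4, 5],
    [2, 3, 4, 5], [0, 2, 3, 4, 5], [1, 2, 3, 4, 5], [0, 1, 2, 3, 4, 5], [6], [0, 6],
    [1, 6], [0, 1, 6], [2, 6], [0, 2, 6], [1, 2, 6], [0, 1, 2, 6],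
    [3, 6], [0, 3, 6], [1, 3, 6], [0, 1, 3, 6], [2, 3, 6], [0, 2, 3, 6],
    [1, 2, 3, 6], [0, 1, 2, 3, 6], [4, 6], [0, 4, 6], [1, 4, 6], [0, 1, 4, 6],
    [2, 4, 6], [0, 2, 4, 6], [1, 2, 4, 6], [0, 1, 2, 4, 6], [3, 4, 6], [0, 3, 4, 6],
    [1, 3, 4, 6], [0, 1, 3, 4, 6], [2, 3, 4, 6], [0, 2, 3, 4, 6], [1, 2, 3, 4, 6], [0, 1, 2, 3, 4, 6],
    [5, 6], [0, 5, 6], [1, 5, 6], [0, 1, 5, 6], [2, 5, 6], [0, 2, 5, 6],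
    [1, 2, 5, 6], [0, 1, 2, 5, 6], [3, 5, 6], [0, 3, 5, 6], [1, 3, 5, 6], [0, 1, 3, 5, 6],
    [2, 3, 5, 6], [0, 2, 3, 5, 6], [1, 2, 3, 5, 6], [0, 1, 2, 3, 5, 6], [4, 5, 6], [0, 4, 5, 6],
    [1, 4, 5, 6], [0, 1, 4, 5, 6], [2, 4, 5, 6], [0, 2, 4, 5, 6], [1, 2, 4, 5, 6], [0, 1, 2, 4, 5, 6],
    [3, 4, 5, 6], [0, 3, 4, 5, 6], [1, 3, 4, 5, 6], [0, 1, 3, 4, 5, 6], [2, 3, 4, 5, 6], [0, 2, 3, 4, 5, 6],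
    [1, 2, 3, 4, 5, 6], [0, 1, 2, 3, 4, 5, 6]]
  order := 443520
  p := 2

/-- The letters. -/
def threeGens : List ℕ :=
  [0xbbab0b1a9194caa69d2863d6220c20,
    0xbc12ba18ad946c79b11553dc418820]

/-- The certificate. -/
def three : PcCover.Cert where
  n := 2
  rules := [([0, 0, 0], []),
    ([1, 1, 1], []),
    ([1, 0], [0, 1])]
  rels := [.cons [1] 0]
  cvec := [0, 0, 1]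
  m := 3
  mcomb := [1]
  basis := [(2, [0, 0, 1], [1, 0])]
  T := [([], [])]
  elems := [[], [0], [0, 0], [1], [0, 1], [0, 0, 1],
    [1, 1], [0, 1, 1], [0, 0, 1, 1]]
  order := 443520
  p := 3

end Cfsg.Agent.MultiplierTwentyTwo.Upper
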