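/-
Upper bound for the Schur multiplier of M22.

Main result: `exists_surj_twelve`.
-/
import Cfsg.Agent.Lib.MultiplierTwentyTwo.DataUpper
import Cfsg.Agent.Lib.MultiplierTwentyTwo.Rows
import Cfsg.Agent.Lib.Schur.Basic

set_option autoImplicit false
set_option linter.style.haveILetI false
set_option maxRecDepth 100000
set_option Elab.async false
open Cfsg

namespace Cfsg.Agent.MultiplierTwentyTwo

open Cfsg.Agent.Golay Cfsg.Agent.Multiplier Cfsg.Agent.PcCover

theorem twoGens_ok : Upper.twoGens.all ok = true := by decide +kernel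
theorem threeGens_ok : Upper.threeGens.all ok = true := by decide +kernel
theorem two_cert_rels : ((Upper.two.rules.all fun r => eqWord Upper.twoGens r.1 r.2) &&
    Upper.two.rels.all (Upper.two.relOk (eqWord Upper.twoGens)) &&
    zeroV (subV (smulV (Upper.two.m : ℤ) Upper.two.cvec) (comb Upper.two.mcomb (Upper.two.rels.map Upper.two.relVec))) &&
    (Upper.two.basis.all fun b => zeroV (subV b.2.1 (comb b.2.2 (Upper.two.cvec :: Upper.two.rels.map Upper.two.relVec)))) &&
    Upper.two.T.contains ([], [])) = true := by decide +kernel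

theorem two_cert_mul : (Upper.two.T.all fun t => Upper.two.T.all fun t' =>
    Upper.two.inT (t.1 ++ t'.1) [] (addV t.2 t'.2)) = true := by decide +kernel

theorem two_cert_conj : ((List.range Upper.two.n).all fun i => Upper.two.T.all fun t =>
    Upper.two.T.any fun t' =>
      (collect Upper.two.rules (i :: t.1)).1 == (collect Upper.two.rules (t'.1 ++ [i])).1 &&
      Upper.two.inC (subV (addV t.2 (collect Upper.two.rules (i :: t.1)).2)
        (addV t'.2 (collect Upper.two.rules (t'.1 ++ [i])).2))) = true := by decide +kernel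

theorem two_cert_comm : (((List.range Upper.two.n).all fun x => (List.range Upper.two.n).all fun y =>
      Upper.two.inT [x, y] [y, x] []) &&
    (Upper.two.T.all fun t => !eqWord Upper.twoGens t.1 [] || (t.1 == [] && zeroV t.2)) &&
    Upper.two.elems.contains [] &&
    (Upper.two.elems.all fun l => l.all (fun i => decide (i < Upper.two.n)))) = true := by decide +kernel

theorem two_cert_closed : (Upper.two.elems.all fun l => (List.range Upper.two.n).all fun i =>
    Upper.two.elems.contains (collect Upper.two.rules (l ++ [i])).1) = true := by decide +kernel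

theorem two_cert_nodup : ((List.range Upper.two.elems.length).all fun i => (List.range i).all fun j =>
    !eqWord Upper.twoGens (Upper.two.elems.getD i []) (Upper.two.elems.getD j [])) = true := by decide +kernel

theorem two_cert_order : (Upper.two.order % Upper.two.elems.length == 0 &&
    !(Upper.two.order / Upper.two.elems.length % Upper.two.p == 0)) = true := by decide +kernel

theorem two_cert : Upper.two.check (eqWord Upper.twoGens) = true := by
  have h1 := two_cert_rels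
  have h4 := two_cert_comm
  simp only [Bool.and_eq_true] at h1 h4
  obtain ⟨⟨⟨⟨a1, a2⟩, a3⟩, a4⟩, a5⟩ := h1
  obtain ⟨⟨⟨b1, b2⟩, b3⟩, b4⟩ := h4
  rw [Cert.check]
  simp only [Bool.and_eq_true]
  exact ⟨⟨⟨⟨⟨⟨⟨⟨⟨⟨⟨⟨⟨a1, a2⟩, a3⟩, a4⟩, a5⟩, two_cert_mul⟩, two_cert_conj⟩, b1⟩, b2⟩, b3⟩, b4⟩,
    two_cert_closed⟩, two_cert_nodup⟩, Bool.and_eq_true_iff.1 two_cert_order⟩

theorem three_cert : Upper.three.check (eqWord Upper.threeGens) = true := by decide +kernel

/-- The kernel of a stem extension of M22 is an image of the cyclic group of order 12. -/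
theorem exists_surj_twelve {Γ : Type} [Group Γ] [Finite Γ] (σ : Γ →* Cfsg.Spor.M22)
    (hσ : Cfsg.IsStemExtension σ) :
    ∃ π : Multiplicative (ZMod 12) →* σ.ker, Function.Surjective π := by
  classical
  obtain ⟨c₂, h2⟩ := Cert.bound Upper.two (letter ok_sound Upper.twoGens) _
    (eqWord_iff ok_sound (by decide +kernel) twoGens_ok) natCard_m22 Nat.prime_two two_cert hσ
  obtain ⟨c₃, h3⟩ := Cert.bound Upper.three (letter ok_sound Upper.threeGens) _
    (eqWord_iff ok_sound (by decide +kernel) threeGens_ok) natCard_m22 Nat.prime_three three_cert hσ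
  have h5 : ∀ p : ℕ, p.Prime → 5 ≤ p → ∀ (k : ℕ) (z : Γ), z ∈ σ.ker → z ^ p ^ k = 1 → z = 1 := by
    intro p hp hp5 k z hz hord
    haveI := Fact.mk hp
    have hns : ¬ p ^ 2 ∣ 443520 := by
      intro hd
      have hpd : p ∣ 2 ^ 7 * (3 ^ 2 * (5 * (7 * 11))) :=
        (dvd_pow_self p two_ne_zero).trans (by norm_num; exact hd)
      rcases hp.dvd_mul.1 hpd with h | h
      · have := Nat.le_of_dvd (by norm_num) (hp.dvd_of_dvd_pow h); omega
      rcases hp.dvd_mul.1 h with h | h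
      · have := Nat.le_of_dvd (by norm_num) (hp.dvd_of_dvd_pow h); omega
      rcases hp.dvd_mul.1 h with h | h
      · rw [(Nat.prime_dvd_prime_iff_eq hp (by norm_num)).1 h] at hd; norm_num at hd
      rcases hp.dvd_mul.1 h with h | h
      · rw [(Nat.prime_dvd_prime_iff_eq hp (by norm_num)).1 h] at hd; norm_num at hd
      · rw [(Nat.prime_dvd_prime_iff_eq hp (by norm_num)).1 h] at hd; norm_num at hd
    by_cases hd : p ∣ Nat.card Cfsg.Spor.M22
    · obtain ⟨r, hr⟩ := exists_prime_orderOf_dvd_card' (G := Cfsg.Spor.M22) p hd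
      refine Schur.eq_one_of_cyclic hσ hp r (fun hdi => hns ?_) hz hord
      rw [← natCard_m22, pow_two, ← (Subgroup.zpowers r).card_mul_index, Nat.card_zpowers, hr]
      exact Nat.mul_dvd_mul_left p hdi
    · refine Schur.eq_one_of_cyclic hσ hp 1 (fun hdi => hd ?_) hz hord
      rwa [Subgroup.zpowers_one_eq_bot, Subgroup.index_bot] at hdi
  -- the kernel
  letI : CommGroup σ.ker :=
    { (inferInstance : Group σ.ker) with
      mul_comm := fun x y => Subtype.ext ((Subgroup.mem_center_iff.1 (hσ.2.1 y.2)) x.1) }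
  have hexp : ∀ z : σ.ker, z ^ 12 = 1 := by
    intro z
    let K : Subgroup Γ := (powMonoidHom 12 : σ.ker →* σ.ker).ker.map σ.ker.subtype
    have hK : σ.ker ≤ K := Schur.le_of_primary fun p hp k w hw hwk => by
      refine ⟨⟨w, hw⟩, Subtype.ext ?_, rfl⟩
      show w ^ 12 = 1
      by_cases hp2 : p = 2
      · subst hp2
        rw [show (12 : ℕ) = 4 * 3 from rfl, pow_mul, show w ^ 4 = 1 from (h2 k w hw hwk).2, one_pow]
      by_cases hp3 : p = 3
      · subst hp3
        rw [show (12 : ℕ) = 3 * 4 from rfl, pow_mul, show w ^ 3 = 1 from (h3 k w hw hwk).2, one_pow]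
      have hp5 : 5 ≤ p := by
        have := hp.two_le
        by_contra hlt
        interval_cases p <;> first | omega | norm_num at hp
      rw [h5 p hp hp5 k w hw hwk, one_pow]
    obtain ⟨w, hw, hwz⟩ := hK z.2
    rw [← Subtype.ext hwz]
    exact hw
  have hsub : ∀ (p k : ℕ), (p = 2 ∧ k = 2) ∨ (p = 3 ∧ k = 1) → ∃ g : σ.ker, g ^ p ^ k = 1 ∧
      ∀ z : σ.ker, z ^ p ^ k = 1 → z ∈ Subgroup.zpowers g := by
    intro p k hpk
    obtain ⟨c, hc⟩ : ∃ c : Γ, ∀ z : σ.ker, z ^ p ^ k = 1 → (z : Γ) ∈ Subgroup.zpowers c := by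
      rcases hpk with ⟨rfl, rfl⟩ | ⟨rfl, rfl⟩
      · exact ⟨c₂, fun z hz => (h2 2 z z.2 (congrArg Subtype.val hz :)).1⟩
      · exact ⟨c₃, fun z hz => (h3 1 z z.2 (congrArg Subtype.val hz :)).1⟩
    let P : Subgroup σ.ker := (powMonoidHom (p ^ k) : σ.ker →* σ.ker).ker
    have hle : P.map σ.ker.subtype ≤ Subgroup.zpowers c := by
      rintro _ ⟨z, hz, rfl⟩
      exact hc z hz
    haveI : IsCyclic (P.map σ.ker.subtype) := Subgroup.isCyclic_of_le hle
    haveI : IsCyclic P :=
      isCyclic_of_surjective (P.equivMapOfInjective σ.ker.subtype Subtype.val_injective).symm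
        (P.equivMapOfInjective σ.ker.subtype Subtype.val_injective).symm.surjective
    obtain ⟨g, hg⟩ := IsCyclic.exists_generator (α := P)
    refine ⟨g, g.2, fun z hz => ?_⟩
    obtain ⟨i, hi⟩ := Subgroup.mem_zpowers_iff.1 (hg ⟨z, hz⟩)
    exact Subgroup.mem_zpowers_iff.2 ⟨i, by rw [← SubgroupClass.coe_zpow, hi]⟩
  obtain ⟨g₂, hg2, hall2⟩ := hsub 2 2 (Or.inl ⟨rfl, rfl⟩)
  obtain ⟨g₃, hg3, hall3⟩ := hsub 3 1 (Or.inr ⟨rfl, rfl⟩)
  let f : ℤ →+ Additive σ.ker := zmultiplesHom _ (Additive.ofMul (g₂ * g₃))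
  have hf : f 12 = 0 := by
    show Additive.ofMul ((g₂ * g₃) ^ (12 : ℤ)) = 0
    rw [show (g₂ * g₃) ^ (12 : ℤ) = 1 from (zpow_natCast (g₂ * g₃) 12).trans (hexp _)]
    rfl
  refine ⟨AddMonoidHom.toMultiplicativeLeft (ZMod.lift 12 ⟨f, hf⟩), fun x => ?_⟩
  have hx : x ∈ Subgroup.zpowers (g₂ * g₃) := by
    have ha : x ^ 9 ∈ Subgroup.zpowers g₂ := hall2 _ (by
      rw [← pow_mul, show 9 * 2 ^ 2 = 12 * 3 from rfl, pow_mul, hexp, one_pow])
    have hb : x ^ 4 ∈ Subgroup.zpowers g₃ := hall3 _ (by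
      rw [← pow_mul, show 4 * 3 ^ 1 = 12 from rfl, hexp])
    have e2 : g₂ ∈ Subgroup.zpowers (g₂ * g₃) := by
      refine Subgroup.mem_zpowers_iff.2 ⟨((9 : ℕ) : ℤ), ?_⟩
      rw [zpow_natCast, mul_pow, show g₂ ^ 9 = g₂ * (g₂ ^ 2 ^ 2) ^ 2 by
        rw [← pow_mul, ← pow_succ']; rfl, hg2, one_pow, mul_one,
        show g₃ ^ 9 = (g₃ ^ 3 ^ 1) ^ 3 by rw [← pow_mul]; rfl, hg3, one_pow, mul_one]
    have e3 : g₃ ∈ Subgroup.zpowers (g₂ * g₃) := by
      refine Subgroup.mem_zpowers_iff.2 ⟨((4 : ℕ) : ℤ), ?_⟩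
      rw [zpow_natCast, mul_pow, show g₂ ^ 4 = g₂ ^ 2 ^ 2 from rfl, hg2, one_mul,
        show g₃ ^ 4 = g₃ * g₃ ^ 3 ^ 1 by rw [← pow_succ']; rfl, hg3, mul_one]
    have : x = x ^ 9 * x ^ 4 := by
      rw [← pow_add, show 9 + 4 = 12 + 1 from rfl, pow_succ, hexp, one_mul]
    rw [this]
    exact mul_mem ((Subgroup.zpowers_le.2 e2) ha) ((Subgroup.zpowers_le.2 e3) hb)
  obtain ⟨i, hi⟩ := Subgroup.mem_zpowers_iff.1 hx
  refine ⟨Multiplicative.ofAdd (i : ZMod 12), ?_⟩
  show Additive.toMul (ZMod.lift 12 ⟨f, hf⟩ (i : ZMod 12)) = x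
  rw [ZMod.lift_coe]
  exact hi

end Cfsg.Agent.MultiplierTwentyTwo
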